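import Cfsg.Agent.OddHalf.D9.Plug.L34
import Cfsg.Agent.KFacts.MulM22.Row

/-!
# The rows `L₃(4)` and `M₂₂` of `MultOf`
-/

set_option autoImplicit false

namespace Cfsg.Agent.OddHalf.D9.MultAll.Four

open Cfsg.Agent.OddHalf.D9

universe u

theorem fourRows : MultOf.FourRows.{u} where
  l34 := Plug.L34.field
  m22 := Cfsg.Agent.KFacts.MulM22.Row.bd_m22

end Cfsg.Agent.OddHalf.D9.MultAll.Four
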