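import Cfsg.Agent.OddHalf.D9.Plug.E678
import Cfsg.Agent.KFacts.Mult.TypeA
import Cfsg.Agent.KFacts.Mult.LacedA
import Cfsg.Agent.KFacts.Mult.Chev
import Cfsg.Agent.KFacts.Mult.Unitary
import Cfsg.Agent.KFacts.Mult.WittZ
import Cfsg.Agent.KFacts.Mult.SpTwo
import Cfsg.Agent.KFacts.Mult.OMinusLit
import Cfsg.Agent.KFacts.Mult.LacedDRow
import Cfsg.Agent.KFacts.Mult.ThreeD4Big
import Cfsg.Agent.KFacts.Mult.TwESixBig
import Cfsg.Agent.KFacts.Mult.UnitInst
import Cfsg.Agent.KFacts.Mult.TwFFour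
import Cfsg.Agent.KFacts.OddLift.Tits

/-!
# The groups of Lie type in characteristic 2 without perfect double cover: `LieND` of `MultOf`
-/

set_option autoImplicit false

namespace Cfsg.Agent.OddHalf.D9.MultAll.Lie

open Cfsg Cfsg.Agent.OddHalf.D9 Cfsg.Agent.KFacts.MulDef

theorem charP_two {F : Type} [Field F] [Fintype F] {a : ℕ} (h : Fintype.card F = 2 ^ a) : CharP F 2 := by
  haveI : Fact (Nat.Prime 2) := ⟨Nat.prime_two⟩
  exact charP_of_card_eq_prime_pow h

theorem lt_card {F : Type} [Field F] [Fintype F] {a k : ℕ} (h : Fintype.card F = 2 ^ a) (hk : k ≤ a) :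
    2 ^ k ≤ Nat.card F := by
  rw [Nat.card_eq_fintype_card, h]
  exact Nat.pow_le_pow_right (by norm_num) hk

theorem l2 (F : Type) [Field F] [Fintype F] (a : ℕ) (ha : 3 ≤ a) (h : Fintype.card F = 2 ^ a) :
    NoDouble (Matrix.ProjectiveSpecialLinearGroup (Fin 2) F) := by
  haveI := charP_two h
  exact Cfsg.Agent.KFacts.Mult.TypeA.noDouble_PSL (F := F) (by norm_num) (Or.inr (by
    have := lt_card h ha
    omega))

theorem l3 (F : Type) [Field F] [Fintype F] (a : ℕ) (ha : 3 ≤ a) (h : Fintype.card F = 2 ^ a) :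
    NoDouble (Matrix.ProjectiveSpecialLinearGroup (Fin 3) F) := by
  haveI := charP_two h
  exact Cfsg.Agent.KFacts.Mult.TypeA.noDouble_PSL (F := F) (by norm_num) (Or.inr (by
    have := lt_card h ha
    omega))

theorem l (F : Type) [Field F] [Fintype F] (a n : ℕ) (ha : 1 ≤ a) (h : Fintype.card F = 2 ^ a) (hn : 4 ≤ n)
    (h4 : n = 4 → 2 ≤ a) : NoDouble (Matrix.ProjectiveSpecialLinearGroup (Fin n) F) := by
  haveI := charP_two h
  by_cases ha2 : 2 ≤ a
  · exact Cfsg.Agent.KFacts.Mult.TypeA.noDouble_PSL (F := F) (by omega) (Or.inl ⟨hn, by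
      have := lt_card h ha2
      omega⟩)
  · have hn5 : 5 ≤ n := by
      by_contra hcon
      exact ha2 (h4 (by omega))
    exact Cfsg.Agent.KFacts.Mult.LacedA.noDouble_PSL hn5 (Plug.E678.two_eq_zero ha h)

theorem g2 (F : Type) [Field F] [Fintype F] (a : ℕ) (ha : 3 ≤ a) (h : Fintype.card F = 2 ^ a) :
    NoDouble ↥(Lie.chevG2.group F) := by
  haveI := charP_two h
  exact Cfsg.Agent.KFacts.Mult.Chev.noDouble_G2 F (by
    have := lt_card h ha
    omega)

theorem f4 (F : Type) [Field F] [Fintype F] (a : ℕ) (ha : 2 ≤ a) (h : Fintype.card F = 2 ^ a) :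
    NoDouble ↥(Lie.chevF4.group F) := by
  haveI := charP_two h
  exact Cfsg.Agent.KFacts.Mult.Chev.noDouble_F4 F (by
    have := lt_card h ha
    omega)

theorem sp4 (F : Type) [Field F] [Fintype F] (a : ℕ) (ha : 2 ≤ a) (h : Fintype.card F = 2 ^ a) :
    NoDouble (PSp 2 F) := by
  haveI := charP_two h
  exact Cfsg.Agent.KFacts.Mult.WittZ.noDouble_PSp (by
    have := lt_card h ha
    omega) le_rfl

theorem sp (F : Type) [Field F] [Fintype F] (a m : ℕ) (ha : 1 ≤ a) (h : Fintype.card F = 2 ^ a) (hm : 3 ≤ m)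
    (h3 : m = 3 → 2 ≤ a) : NoDouble (PSp m F) := by
  haveI := charP_two h
  by_cases ha2 : 2 ≤ a
  · exact Cfsg.Agent.KFacts.Mult.WittZ.noDouble_PSp (by
      have := lt_card h ha2
      omega) (by omega)
  · obtain rfl : a = 1 := by omega
    have hm4 : 4 ≤ m := by
      by_contra hcon
      exact ha2 (h3 (by omega))
    exact Cfsg.Agent.KFacts.Mult.SpTwo.noDouble_psp_two (by simpa using h) hm4

theorem lieND : MultOf.LieND where
  l2 := l2
  l3 := l3
  l := l
  u3 := Cfsg.Agent.KFacts.Mult.Unitary.u3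
  u4 := Cfsg.Agent.KFacts.Mult.Unitary.u4
  u5 := by
    intro F _ _ a ha hF
    by_cases ha2 : 2 ≤ a
    · exact Cfsg.Agent.KFacts.Mult.Unitary.u5 F a ha2 hF
    · obtain rfl : a = 1 := by omega
      rw [pow_one] at hF ⊢
      exact Cfsg.Agent.KFacts.Mult.UnitTwo.noDouble_psu (by rw [hF]; norm_num) (Or.inl rfl)
  u := by
    intro F _ _ a n ha hF hn h6
    by_cases ha2 : 2 ≤ a
    · exact Cfsg.Agent.KFacts.Mult.Unitary.u F a n ha2 hF hn
    · obtain rfl : a = 1 := by omega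
      rw [pow_one] at hF ⊢
      have hn7 : 7 ≤ n := by
        by_contra hcon
        exact ha2 (h6 (by omega))
      exact Cfsg.Agent.KFacts.Mult.UnitTwo.noDouble_psu (by rw [hF]; norm_num) (Or.inr hn7)
  sp4 := sp4
  sp := sp
  oplus := Cfsg.Agent.KFacts.Mult.LacedDRow.oplus
  ominus := Cfsg.Agent.KFacts.Mult.OMinusLit.ominus
  g2 := g2
  f4 := f4
  e6 := Plug.E678.e6
  e7 := Plug.E678.e7
  e8 := Plug.E678.e8
  e62 := Cfsg.Agent.KFacts.Mult.TwESixBig.e62
  d43 := Cfsg.Agent.KFacts.Mult.ThreeD4Big.d43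
  f42 := Cfsg.Agent.KFacts.Mult.TwFFour.noDouble
  tits := Cfsg.Agent.KFacts.OddLift.Tits.noDouble_tits

end Cfsg.Agent.OddHalf.D9.MultAll.Lie
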