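import Cfsg.Agent.KFacts.OddLift.RowsTwo
import Cfsg.Agent.KFacts.OddLift.RowUSix
import Cfsg.Agent.OddHalf.D9.Plug.HS
import Cfsg.Agent.OddHalf.D9.Plug.Fi22
import Cfsg.Agent.OddHalf.D9.Plug.Co1
import Cfsg.Agent.OddHalf.D9.Plug.Baby
import Cfsg.Agent.OddHalf.D9.MultCov
import Cfsg.Agent.OddHalf.D9.FFour.MultTwo
import Cfsg.Agent.KFacts.Mult.TwESixTwo
import Cfsg.Agent.KFacts.MulP.Rows

/-!
# The rows of `TwoRows` of `MultOf`
-/

set_option autoImplicit false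

namespace Cfsg.Agent.OddHalf.D9.MultAll.Two

open Cfsg Cfsg.Agent.OddHalf.D9 Cfsg.Agent.OddHalf.D9.MultOf Cfsg.Agent.OddHalf.D9.Cut

universe u

/-- the missing rows -/
structure Missing : Prop where
  ru : Bd.{u} 2 (fun X _ => Spor.IsoRu X)

theorem e62 : Bd.{u} 2 (fun X _ => X2E62 X) := fun _ _ hK hP =>
  Cfsg.Agent.KFacts.Mult.TwESixTwo.center_cyc hK.1 hK.2.1 hK.2.2.1 hK.2.2.2 hP

theorem twoRows_of (h : Missing.{u}) : MultOf.TwoRows.{u} where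
  u62 := Cfsg.Agent.KFacts.OddLift.RowUSix.u62
  sp62 := Cfsg.Agent.KFacts.OddLift.RowsTwo.sp62
  o82 := Cfsg.Agent.KFacts.OddLift.RowsTwo.o82
  g24 := MultCov.g24
  f42 := FFour.MultTwo.two
  e62 := e62
  m12 := Cfsg.Agent.KFacts.MulP.Rows.m12
  j2 := Cfsg.Agent.KFacts.MulP.Rows.j2
  hs := Plug.HS.field
  suz := MultCov.suz
  ru := h.ru
  fi22 := Plug.Fi22.field
  co1 := Plug.Co1.field
  b := Plug.Baby.field

end Cfsg.Agent.OddHalf.D9.MultAll.Two
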