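import Cfsg.Agent.OddHalf.D9.Plug.He
import Cfsg.Agent.OddHalf.D9.Plug.Fi23
import Cfsg.Agent.OddHalf.D9.Plug.McLLy
import Cfsg.Agent.KFacts.MulSpor.NoDbl
import Cfsg.Agent.KFacts.MulM23.Main
import Cfsg.Agent.KFacts.MulSpor.J3Iso
import Cfsg.Agent.KFacts.MulSpor.CoThree
import Cfsg.Agent.KFacts.MulY.CoTwo
import Cfsg.Agent.KFacts.MulSpor.ON
import Cfsg.Agent.S1699
import Cfsg.Agent.KFacts.MulFi24.Final
import Cfsg.Agent.KFacts.MulHNMain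
import Cfsg.Agent.KFacts.MulSpor.Th
import Cfsg.Agent.KFacts.MulY.M
import Cfsg.Agent.MonsterP.Equiv

/-!
# The sporadic groups without perfect double cover: `SporND` of `MultOf`
-/

set_option autoImplicit false

namespace Cfsg.Agent.OddHalf.D9.MultAll.Spor

open Cfsg Cfsg.Agent.OddHalf.D9 Cfsg.Agent.KFacts.MulDef

universe u

theorem noDouble_Co2 : NoDouble Spor.Co2 :=
  Cfsg.Agent.KFacts.MulY.CoTwo.noDouble (Plug.McLLy.mcl _ ⟨MulEquiv.refl _⟩)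

theorem sporND : MultOf.SporND.{u} where
  m11 := fun _ _ ⟨e⟩ => Cfsg.Agent.KFacts.MulSpor.NoDbl.M11.congr e.symm
  m23 := fun _ _ ⟨e⟩ => Cfsg.Agent.KFacts.MulM23.Main.noDouble.congr e.symm
  m24 := fun _ _ ⟨e⟩ => Cfsg.Agent.KFacts.MulSpor.NoDbl.M24.congr e.symm
  j1 := fun _ _ ⟨e⟩ => Cfsg.Agent.KFacts.MulSpor.NoDbl.J1.congr e.symm
  j3 := Cfsg.Agent.KFacts.MulSpor.J3Iso.noDouble
  j4 := fun _ _ ⟨e⟩ => Cfsg.Agent.KFacts.MulSpor.NoDbl.J4.congr e.symm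
  co2 := fun _ _ ⟨e⟩ => noDouble_Co2.congr e.symm
  co3 := fun _ _ h => Cfsg.Agent.KFacts.MulSpor.CoThree.noDouble_of_iso h
  mcl := Plug.McLLy.mcl
  he := Plug.He.field
  on := fun _ _ ⟨e⟩ => (Cfsg.Agent.KFacts.MulSpor.ON.noDouble_of_simple Cfsg.Agent.S1699.result.1).congr e.symm
  ly := Plug.McLLy.ly
  fi23 := Plug.Fi23.field
  fi24 := fun _ _ h => Cfsg.Agent.KFacts.MulFi24.Final.noDouble_of_iso h
  hn := fun _ _ h => Cfsg.Agent.KFacts.MulHNMain.noDouble_of_iso h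
  th := fun _ _ ⟨e⟩ => Cfsg.Agent.KFacts.MulSpor.Th.noDouble.congr e.symm
  m := fun _ _ ⟨e⟩ =>
    (Cfsg.Agent.KFacts.MulY.M.noDouble_monster Cfsg.Agent.MonsterP.Equiv.equivM).congr e.symm

end Cfsg.Agent.OddHalf.D9.MultAll.Spor
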